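import Cfsg.Agent.Lib.Fus.PushBlocks.Shapes

/-!
# Offenders normal in the Sylow subgroup

Such an offender meets every block in the same subgroup, and has an element fixing no more than the whole offender.
-/

set_option autoImplicit false
set_option linter.unusedSectionVars false
set_option linter.style.haveILetI false

open scoped commutatorElement Matrix

namespace Cfsg.Agent.Fus.PushBlocks

open Subgroup Cfsg.Agent.Grp Cfsg.Agent.Grp.OffenderSL2 Cfsg.Agent.Fus.MinModule Cfsg.Agent.Fus.FFBlocks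

universe u

variable {Γ : Type u} [Group Γ] [Finite Γ] {p : ℕ} [Fact p.Prime] {V P T : Subgroup Γ} {r : ℕ}
  {F : Fin r → Subgroup Γ} {XS : Set (Subgroup Γ)}

theorem Ctx.normal_meet (C : Ctx p V P T F XS) {X : Subgroup Γ} (hX : X ∈ XS) (hn : ∀ t ∈ T, cj t X = X)
    (hne : X ≠ ⊥) (i : Fin r) : X ⊓ F i ≠ ⊥ := by
  obtain ⟨j, hj⟩ : ∃ j, X ⊓ F j ≠ ⊥ := by
    by_contra hh
    push Not at hh
    exact hne (le_bot_iff.mp ((C.exact hX).sup.trans (iSup_le fun j => (hh j).le)))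
  obtain ⟨t, ht, e⟩ := C.blk.trans j i
  intro h
  refine hj ((map_eq_bot_iff_of_injective _ (MulAut.conj t).injective).mp (?_ : cj t (X ⊓ F j) = ⊥))
  rw [cj, Subgroup.map_inf _ _ _ (MulAut.conj t).injective]
  change cj t X ⊓ cj t (F j) = ⊥
  rw [hn t ht, e, h]

theorem Ctx.swap_mem (C : Ctx p V P T F XS) {i : Fin r} {n : ℕ} {ρ : ↥(F i) →* Equiv.Perm (Fin (2 ^ n + 1))}
    {lam : Γ → (Fin (2 ^ n + 1) → ZMod 2)} (h : PermCo (2 ^ n + 1) V (F i) ρ lam) (hn : 1 ≤ n) {o : Fin (2 ^ n + 1)}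
    (Sh : PermShape C i ρ o) {X : Subgroup Γ} (hX : X ∈ XS) (hXn : ∀ t ∈ T, cj t X = X) (hne : X ≠ ⊥)
    {d : ↥(F i)} (hd : (d : Γ) ∈ T) (hsw : (ρ d).IsSwap) : (d : Γ) ∈ X := by
  have hgen : X ⊓ F i ≤ closure {y | y ∈ X ⊓ F i ∧ ∃ hy : y ∈ F i, (ρ ⟨y, hy⟩).IsSwap} :=
    (h.bound (Nat.even_pow.mpr ⟨even_two, by omega⟩).add_one C.vh (C.blk.le i) inf_le_right
      fun x hx y hy => (C.off X hX).comm x hx.1 y hy.1).2 ((C.exact hX).card i)
  obtain ⟨y0, hy0, hy0F, a0, b0, hab0, hρ0⟩ : ∃ y, y ∈ X ⊓ F i ∧ ∃ hy : y ∈ F i, (ρ ⟨y, hy⟩).IsSwap := by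
    by_contra hh
    refine C.normal_meet hX hXn hne i (le_bot_iff.mp (hgen.trans ((closure_le _).mpr fun y hy => ?_)))
    exact absurd ⟨y, hy⟩ hh
  have hy0T : y0 ∈ T := (C.off X hX).le hy0.1
  have hne_o : ∀ {a b : Fin (2 ^ n + 1)} {d : ↥(F i)}, a ≠ b → (d : Γ) ∈ T → ρ d = Equiv.swap a b → a ≠ o := by
    intro a b d hab hd e ha
    have h1 := Sh.fix d hd
    rw [e, ← ha, Equiv.swap_apply_left] at h1
    exact hab h1.symm
  obtain ⟨a, b, hab, hρd⟩ := hsw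
  obtain ⟨t, ht, hta⟩ := Sh.trans a0 a (hne_o (d := ⟨y0, hy0F⟩) hab0 hy0T hρ0) (hne_o hab hd hρd)
  have hconj : ρ (t * ⟨y0, hy0F⟩ * t⁻¹) = Equiv.swap a (ρ t b0) := by
    rw [map_mul, map_mul, map_inv, hρ0, ← Equiv.swap_apply_apply, hta]
  have hne' : a ≠ ρ t b0 := fun e => hab0 ((ρ t).injective (hta.trans e))
  obtain rfl : b = ρ t b0 := Sh.disj hab hne' hd (mul_mem (mul_mem ht hy0T) (inv_mem ht) :
    ((t * ⟨y0, hy0F⟩ * t⁻¹ : ↥(F i)) : Γ) ∈ T) hρd hconj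
  rw [h.bij.1 (hρd.trans hconj.symm)]
  exact (hXn (t : Γ) ht).le (conj_mem_cj _ hy0.1)

/-- Two normal offenders meet each block in the same subgroup. -/
theorem Ctx.normal_inf_eq (C : Ctx p V P T F XS) {X Y : Subgroup Γ} (hX : X ∈ XS) (hXn : ∀ t ∈ T, cj t X = X)
    (hXne : X ≠ ⊥) (hY : Y ∈ XS) (hYn : ∀ t ∈ T, cj t Y = Y) (hYne : Y ≠ ⊥) (i : Fin r) :
    X ⊓ F i = Y ⊓ F i := by
  obtain ⟨n, hn, ⟨K, iK, fK, ρ, lam, hK, h⟩ | ⟨hp, ρ, lam, h⟩⟩ := models C.vh C.blk i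
  · obtain ⟨-, hall, -, -⟩ := C.sl_shape hn hK h
    rw [(hall X hX).resolve_left (C.normal_meet hX hXn hXne i), (hall Y hY).resolve_left (C.normal_meet hY hYn hYne i)]
  · obtain ⟨o, Sh⟩ := C.perm_shape hn hp h
    have key : ∀ {Z W : Subgroup Γ}, Z ∈ XS → W ∈ XS → (∀ t ∈ T, cj t W = W) → W ≠ ⊥ → Z ⊓ F i ≤ W ⊓ F i := by
      intro Z W hZ hW hWn hWne
      refine (Sh.gen Z hZ).trans ((closure_le _).mpr ?_)
      rintro y ⟨hyT, hyF, hsw⟩
      exact mem_inf.mpr ⟨C.swap_mem h hn Sh hW hWn hWne (d := ⟨y, hyF⟩) hyT hsw, hyF⟩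
    exact le_antisymm (key hX hY hYn hYne) (key hY hX hXn hXne)

/-- The normal offender is unique. -/
theorem Ctx.normal_unique (C : Ctx p V P T F XS) {X Y : Subgroup Γ} (hX : X ∈ XS) (hXn : ∀ t ∈ T, cj t X = X)
    (hXne : X ≠ ⊥) (hY : Y ∈ XS) (hYn : ∀ t ∈ T, cj t Y = Y) (hYne : Y ≠ ⊥) : X = Y :=
  le_antisymm ((C.exact hX).sup.trans (iSup_le fun i => (C.normal_inf_eq hX hXn hXne hY hYn hYne i).le.trans inf_le_left))
    ((C.exact hY).sup.trans (iSup_le fun i => (C.normal_inf_eq hY hYn hYne hX hXn hXne i).le.trans inf_le_left))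

/-- In one block some element fixes as little as the whole component. -/
theorem Ctx.exists_generic_block (C : Ctx p V P T F XS) {X : Subgroup Γ} (hX : X ∈ XS) (hXn : ∀ t ∈ T, cj t X = X)
    (hXne : X ≠ ⊥) (i : Fin r) :
    ∃ x ∈ X ⊓ F i, ∀ v ∈ V, ⁅x, v⁆ ∈ centralizer (F i : Set Γ) → v ∈ fixK V (F i) (X ⊓ F i) := by
  classical
  have hYP : X ⊓ F i ≤ P := inf_le_right.trans (C.blk.le i)
  obtain ⟨n, hn, ⟨K, iK, fK, ρ, lam, hK, h⟩ | ⟨hp, ρ, lam, h⟩⟩ := models C.vh C.blk i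
  · obtain ⟨hcard, hall, -, -⟩ := C.sl_shape hn hK h
    have e := (hall X hX).resolve_left (C.normal_meet hX hXn hXne i)
    obtain ⟨x, hx, hx1⟩ := (bot_or_exists_ne_one (X ⊓ F i)).resolve_left (C.normal_meet hX hXn hXne i)
    refine ⟨x, hx, fun v hv hxv => ?_⟩
    obtain ⟨L, hL⟩ : ∃ L, L = fixK V (F i) (zpowers x) := ⟨_, rfl⟩
    have hxP : zpowers x ≤ P := zpowers_le.mpr (hYP hx)
    have hle : fixK V (F i) (X ⊓ F i) ≤ L := fun w hw => by
      rw [hL, mem_fixK C.vh hxP]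
      exact ⟨fixK_le _ _ _ hw, fun a ha => ((mem_fixK C.vh hYP).mp hw).2 a (zpowers_le.mpr hx ha)⟩
    have hcardL : Nat.card L ≤ Fintype.card K * Nat.card ↥(V ⊓ centralizer (F i : Set Γ)) := by
      rw [card_pre (K := L) h.toIsCoord h.surj
        (fun y => ∀ g ∈ zpowers (ρ ⟨x, hx.2⟩), (g : Matrix (Fin 2) (Fin 2) K) *ᵥ y = y) fun w => ?_]
      · refine Nat.mul_le_mul_right _ (card_fixed_le ?_)
        rw [Ne, zpowers_eq_bot]
        exact fun e1 => hx1 (congrArg Subtype.val (h.bij.1 (e1.trans (map_one ρ).symm)))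
      rw [hL, h.toIsCoord.fix_iff C.vh hxP]
      refine and_congr_right fun hw => ⟨?_, ?_⟩
      · rintro hh g ⟨k, rfl⟩
        change ((ρ ⟨x, hx.2⟩ ^ k : _) : Matrix (Fin 2) (Fin 2) K) *ᵥ lam w = lam w
        rw [← map_zpow, ← h.act _ w hw]
        exact hh _ ⟨k, by simp⟩
      · rintro hh a ⟨k, rfl⟩
        have h1 := h.act (⟨x, hx.2⟩ ^ k) w hw
        rw [show (((⟨x, hx.2⟩ : ↥(F i)) ^ k : ↥(F i)) : Γ) = x ^ k by simp] at h1
        change lam (x ^ k * w * (x ^ k)⁻¹) = _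
        rw [h1, map_zpow]
        exact hh _ (zpow_mem (mem_zpowers _) k)
    have hfix : fixK V (F i) (X ⊓ F i) = L := eq_of_le_of_card_ge hle (by
      have h1 := (C.exact hX).card i
      rw [h.card_V, e, hcard, mul_assoc] at h1
      rw [e]
      exact hcardL.trans (Nat.le_of_mul_le_mul_left h1 Fintype.card_pos))
    rw [hfix, hL, mem_fixK C.vh hxP]
    refine ⟨hv, ?_⟩
    have h2 : v ∈ fixK V (F i) (zpowers x) := by
      rw [h.toIsCoord.fix_iff C.vh hxP]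
      refine ⟨hv, ?_⟩
      have h3 : lam (x * v * x⁻¹) = lam v := by
        have e3 := h.add _ (comm_mem C.vh (hYP hx) hv) _ hv
        rw [show ⁅x, v⁆ * v = x * v * x⁻¹ by rw [commutatorElement_def]; group,
          (h.ker _ (comm_mem C.vh (hYP hx) hv)).mpr ⟨comm_mem C.vh (hYP hx) hv, hxv⟩, zero_add] at e3
        exact e3
      rintro a ⟨k, rfl⟩
      induction k using Int.induction_on with
      | zero => simp
      | succ m ih =>
        change lam (x ^ ((m : ℤ) + 1) * v * (x ^ ((m : ℤ) + 1))⁻¹) = lam v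
        change lam (x ^ (m : ℤ) * v * (x ^ (m : ℤ))⁻¹) = lam v at ih
        have hm : x * v * x⁻¹ ∈ V := C.vh.norm _ (hYP hx) v hv
        rw [show x ^ ((m : ℤ) + 1) * v * (x ^ ((m : ℤ) + 1))⁻¹ = x ^ (m : ℤ) * (x * v * x⁻¹) * (x ^ (m : ℤ))⁻¹ by group]
        have h4 := h.act (⟨x, hx.2⟩ ^ (m : ℤ))
        simp only [SubgroupClass.coe_zpow] at h4
        rw [h4 _ hm, h3, ← h4 _ hv, ih]
      | pred m ih =>
        change lam (x ^ (-(m : ℤ) - 1) * v * (x ^ (-(m : ℤ) - 1))⁻¹) = lam v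
        change lam (x ^ (-(m : ℤ)) * v * (x ^ (-(m : ℤ)))⁻¹) = lam v at ih
        have hm : x⁻¹ * v * x⁻¹⁻¹ ∈ V := C.vh.norm _ (inv_mem (hYP hx)) v hv
        have h5 : lam (x⁻¹ * v * x⁻¹⁻¹) = lam v := by
          have h6 := h.act ⟨x, hx.2⟩⁻¹ _ (C.vh.norm _ (hYP hx) v hv)
          have h7 := h.act ⟨x, hx.2⟩⁻¹ v hv
          simp only [InvMemClass.coe_inv] at h6 h7
          rw [show x⁻¹ * (x * v * x⁻¹) * x⁻¹⁻¹ = v by group, h3, ← h7] at h6
          exact h6.symm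
        rw [show x ^ (-(m : ℤ) - 1) * v * (x ^ (-(m : ℤ) - 1))⁻¹ =
          x ^ (-(m : ℤ)) * (x⁻¹ * v * x⁻¹⁻¹) * (x ^ (-(m : ℤ)))⁻¹ by group]
        have h4 := h.act (⟨x, hx.2⟩ ^ (-(m : ℤ)))
        simp only [SubgroupClass.coe_zpow] at h4
        rw [h4 _ hm, h5, ← h4 _ hv, ih]
    exact ((mem_fixK C.vh hxP).mp h2).2
  · obtain ⟨o, Sh⟩ := C.perm_shape hn hp h
    obtain ⟨Y, hY⟩ : ∃ Y, Y = X ⊓ F i := ⟨_, rfl⟩
    have hsw : ∀ d : ↥(F i), (d : Γ) ∈ T → (ρ d).IsSwap → (d : Γ) ∈ Y := fun d hd hs =>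
      hY ▸ mem_inf.mpr ⟨C.swap_mem h hn Sh hX hXn hXne hd hs, d.2⟩
    have hex : ∀ s : Finset (Fin (2 ^ n + 1)), o ∉ s → ∃ σ : ↥(F i), (σ : Γ) ∈ Y ∧ ∀ a ∈ s, ρ σ a ≠ a := by
      intro s
      induction s using Finset.induction_on with
      | empty => exact fun _ => ⟨1, one_mem _, fun a ha => absurd ha (Finset.notMem_empty a)⟩
      | insert a s has ih =>
        intro ho
        rw [Finset.mem_insert, not_or] at ho
        obtain ⟨σ, hσY, hσ⟩ := ih ho.2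
        by_cases hfa : ρ σ a = a
        · obtain ⟨b, d, hba, -, hdT, hρd⟩ := Sh.cover a (Ne.symm ho.1)
          refine ⟨σ * d, mul_mem hσY (hsw d hdT ⟨a, b, hba.symm, hρd⟩), fun c hc => ?_⟩
          rw [map_mul, Equiv.Perm.mul_apply, hρd]
          rcases eq_or_ne c a with rfl | hca
          · rw [Equiv.swap_apply_left]
            exact fun e => hba ((ρ σ).injective (e.trans hfa.symm))
          rcases eq_or_ne c b with rfl | hcb
          · rw [Equiv.swap_apply_right, hfa]; exact hba.symm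
          · rw [Equiv.swap_apply_of_ne_of_ne hca hcb]
            exact hσ c ((Finset.mem_insert.mp hc).resolve_left hca)
        · exact ⟨σ, hσY, fun c hc => (Finset.mem_insert.mp hc).elim (fun e => e ▸ hfa) (hσ c)⟩
    obtain ⟨σ, hσY, hσ⟩ := hex (Finset.univ.erase o) (Finset.notMem_erase o _)
    refine ⟨σ, hY ▸ hσY, fun v hv hxv => ?_⟩
    have hσP : (σ : Γ) ∈ P := C.blk.le i σ.2
    have h3 : lam ((σ : Γ) * v * (σ : Γ)⁻¹) = lam v := by
      have e3 := h.add _ (comm_mem C.vh hσP hv) _ hv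
      rw [show ⁅(σ : Γ), v⁆ * v = (σ : Γ) * v * (σ : Γ)⁻¹ by rw [commutatorElement_def]; group,
        (h.ker _ (comm_mem C.vh hσP hv)).mpr ⟨comm_mem C.vh hσP hv, hxv⟩, zero_add] at e3
      exact e3
    rw [h.toIsCoord.fix_iff C.vh hYP]
    refine ⟨hv, fun y hy => ?_⟩
    suffices key : ∀ z ∈ closure {y | y ∈ T ∧ ∃ hy : y ∈ F i, (ρ ⟨y, hy⟩).IsSwap},
        z ∈ F i ∧ lam (z * v * z⁻¹) = lam v from (key y (Sh.gen X hX hy)).2
    intro z hz
    induction hz using Subgroup.closure_induction with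
    | one => exact ⟨one_mem _, by simp⟩
    | mul a b _ _ ha hb =>
      refine ⟨mul_mem ha.1 hb.1, ?_⟩
      rw [show a * b * v * (a * b)⁻¹ = a * (b * v * b⁻¹) * a⁻¹ by group]
      funext j
      rw [h.act ⟨a, ha.1⟩ _ (C.vh.norm b (C.blk.le i hb.1) v hv), hb.2, ← h.act ⟨a, ha.1⟩ v hv, ha.2]
    | inv a _ ha =>
      refine ⟨inv_mem ha.1, ?_⟩
      have h6 : ∀ j, lam (a⁻¹ * (a * v * a⁻¹) * a⁻¹⁻¹) j = lam (a⁻¹ * v * a⁻¹⁻¹) j := fun j => by
        have e1 := h.act ⟨a⁻¹, inv_mem ha.1⟩ _ (C.vh.norm a (C.blk.le i ha.1) v hv) j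
        have e2 := h.act ⟨a⁻¹, inv_mem ha.1⟩ v hv j
        rw [e1, e2]; exact congrFun ha.2 _
      funext j
      rw [← h6 j, show a⁻¹ * (a * v * a⁻¹) * a⁻¹⁻¹ = v by group]
    | mem z hz =>
      obtain ⟨hzT, hzF, a, b, hab, hρz⟩ := hz
      refine ⟨hzF, funext fun j => ?_⟩
      rw [h.act ⟨z, hzF⟩ v hv j, hρz, Equiv.swap_inv]
      have hao : a ≠ o := fun e => hab (by
        have h1 := Sh.fix ⟨z, hzF⟩ hzT
        rw [hρz, ← e, Equiv.swap_apply_left] at h1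
        exact h1.symm)
      have hσa : ρ σ a = b := by
        have hzY : z ∈ Y := hsw ⟨z, hzF⟩ hzT ⟨a, b, hab, hρz⟩
        have hcomm : ρ σ * ρ ⟨z, hzF⟩ = ρ ⟨z, hzF⟩ * ρ σ := by
          rw [← map_mul, ← map_mul]
          exact congrArg ρ (Subtype.ext ((C.off X hX).comm _ (hY.le hσY).1 _ (hY.le hzY).1))
        rw [hρz] at hcomm
        have h1 := DFunLike.congr_fun hcomm a
        rw [Equiv.Perm.mul_apply, Equiv.Perm.mul_apply, Equiv.swap_apply_left] at h1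
        by_contra hne
        rw [Equiv.swap_apply_of_ne_of_ne (hσ a (Finset.mem_erase.mpr ⟨hao, Finset.mem_univ a⟩)) hne] at h1
        exact hab ((ρ σ).injective h1).symm
      have h5 : lam v a = lam v b := by
        have h6 := congrFun h3 b
        rw [h.act σ v hv b, show (ρ σ)⁻¹ b = a from Equiv.Perm.inv_eq_iff_eq.mpr hσa.symm] at h6
        exact h6
      rcases eq_or_ne j a with rfl | hja
      · rw [Equiv.swap_apply_left, h5]
      rcases eq_or_ne j b with rfl | hjb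
      · rw [Equiv.swap_apply_right, h5]
      · rw [Equiv.swap_apply_of_ne_of_ne hja hjb]

/-- Some element of a normal offender fixes as little as the offender. -/
theorem Ctx.exists_generic (C : Ctx p V P T F XS) {X : Subgroup Γ} (hX : X ∈ XS) (hXn : ∀ t ∈ T, cj t X = X)
    (hXne : X ≠ ⊥) :
    ∃ x ∈ X, ∀ v ∈ V, (∀ i, ⁅x, v⁆ ∈ centralizer (F i : Set Γ)) → v ∈ centralizer (X : Set Γ) := by
  classical
  choose x hx hfix using C.exists_generic_block hX hXn hXne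
  have key : ∀ s : Finset (Fin r), ∃ y ∈ X ⊓ ⨆ j ∈ s, F j, ∀ i ∈ s, ∃ b ∈ rest F i, y = x i * b := by
    intro s
    induction s using Finset.induction_on with
    | empty => exact ⟨1, one_mem _, fun i hi => absurd hi (Finset.notMem_empty i)⟩
    | insert a s has ih =>
      obtain ⟨y, hy, hyb⟩ := ih
      have hsup : (⨆ j ∈ s, F j) ≤ rest F a := iSup₂_le fun j hj =>
        le_iSup₂ (f := fun j (_ : j ∈ {j | j ≠ a}) => F j) j (fun (e : j = a) => has (e ▸ hj))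
      refine ⟨x a * y, mem_inf.mpr ⟨mul_mem (hx a).1 hy.1, ?_⟩, fun i hi => ?_⟩
      · rw [Finset.iSup_insert]
        exact mul_mem (mem_sup_left (hx a).2) (mem_sup_right hy.2)
      · rcases eq_or_ne i a with rfl | hia
        · exact ⟨y, hsup hy.2, rfl⟩
        · obtain ⟨b, hb, rfl⟩ := hyb i ((Finset.mem_insert.mp hi).resolve_left hia)
          refine ⟨x a * b, mul_mem ((le_iSup₂ (f := fun j (_ : j ∈ {j | j ≠ i}) => F j) a (Ne.symm hia) :
            F a ≤ rest F i) (hx a).2) hb, ?_⟩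
          rw [← mul_assoc, ← mul_assoc]
          exact congrArg (· * b) (pairwise_comm C.blk (Ne.symm hia) _ _ (hx a).2 (hx i).2).eq
  obtain ⟨y, hy, hyb⟩ := key Finset.univ
  refine ⟨y, hy.1, fun v hv hcv => ?_⟩
  suffices hle : X ≤ centralizer ({v} : Set Γ) from
    mem_centralizer_iff.mpr fun a ha => mem_centralizer_singleton_iff.mp (hle ha)
  refine (C.exact hX).sup.trans (iSup_le fun i a ha => mem_centralizer_singleton_iff.mpr ?_)
  obtain ⟨b, hb, rfl⟩ := hyb i (Finset.mem_univ i)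
  have hbP : b ∈ P := (iSup₂_le fun j _ => C.blk.le j : rest F i ≤ P) hb
  have hbv : ⁅b, v⁆ ∈ centralizer (F i : Set Γ) := by
    obtain ⟨w, hw, c, hc, rfl⟩ := exists_mul_of_comm
      (fun w hw c hc => C.vh.vcomm w (commutator_le_V C.vh (C.blk.le i) hw) c (mem_inf.mp hc).1)
      (full C.vh C.blk i hv)
    have hh : rest F i ≤ centralizer ((⁅V, F i⁆ : Subgroup Γ) : Set Γ) := iSup₂_le fun j hj y hy =>
      mem_centralizer_iff.mpr fun u hu => (mem_centralizer_iff.mp (fix_other C.blk (Ne.symm hj) hu) y hy).symm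
    rw [comm_mul C.vh hbP (commutator_le_V C.vh (C.blk.le i) hw) hc.1,
      commutatorElement_eq_one_iff_mul_comm.mpr (mem_centralizer_iff.mp (hh hb) w hw).symm, one_mul,
      commutatorElement_def]
    have hbc : b ∈ centralizer (F i : Set Γ) := mem_centralizer_iff.mpr fun z hz => comm_rest C.blk i z hz b hb
    exact mul_mem (mul_mem (mul_mem hbc hc.2) (inv_mem hbc)) (inv_mem hc.2)
  have h1 := hcv i
  rw [show ⁅x i * b, v⁆ = x i * ⁅b, v⁆ * (x i)⁻¹ * ⁅x i, v⁆ by simp only [commutatorElement_def]; group,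
    show x i * ⁅b, v⁆ * (x i)⁻¹ = ⁅b, v⁆ from mul_inv_eq_iff_eq_mul.mpr
      (mem_centralizer_iff.mp hbv _ (hx i).2)] at h1
  exact mem_centralizer_iff.mp ((C.exact hX).cent i (hfix i v hv ((mul_mem_cancel_left hbv).mp h1))) a ha

end Cfsg.Agent.Fus.PushBlocks
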