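import Mathlib

/-!
# An automorphism of odd order cannot exchange the two sides of a pushing-up group

Abstract form: `f` is an action with kernel the centralizer of `V`; all images of `V` under automorphisms which act
nontrivially have the same image, and the kernel is elementary abelian modulo `C0`. Then along the orbit of an
automorphism moving `V` the acting and the non-acting images alternate, so its order is even.
-/

set_option autoImplicit false

open scoped commutatorElement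

namespace Cfsg.Agent.Fus.PushBlocks.OddAut

open Subgroup

variable {S Γ : Type*} [Group S] [Group Γ]

/-- The automorphism carries `V` out of the kernel. -/
def Moves (V : Subgroup S) (f : S →* Γ) (a : MulAut S) : Prop := ∃ v ∈ V, f (a v) ≠ 1

/-- The hypotheses of the parity argument. -/
structure Sides (V C0 : Subgroup S) (f : S →* Γ) : Prop where
  ker : ∀ x, f x = 1 ↔ ∀ v ∈ V, v * x = x * v
  comm : ∀ v ∈ V, ∀ w ∈ V, v * w = w * v
  inv : ∀ v ∈ V, v * v = 1
  sq : ∀ q, f q = 1 → q * q ∈ C0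
  der : ∀ q r, f q = 1 → f r = 1 → ⁅q, r⁆ ∈ C0
  uniq : ∀ a b : MulAut S, Moves V f a → Moves V f b → ∀ v ∈ V, ∃ w ∈ V, f (a v) = f (b w)
  gen : ∀ a : MulAut S, Moves V f a →
    ∃ v ∈ V, ∀ w ∈ V, ⁅a v, w⁆ ∈ C0 → ∀ u ∈ V, a u * w = w * a u

variable {V C0 : Subgroup S} {f : S →* Γ}

theorem Sides.moves_inv (h : Sides V C0 f) {a : MulAut S} (ha : Moves V f a) : Moves V f a⁻¹ := by
  by_contra hn
  obtain ⟨v, hv, hfv⟩ := ha
  refine hfv ((h.ker _).mpr fun w hw => ?_)
  have h1 : f (a⁻¹ w) = 1 := by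
    by_contra h0
    exact hn ⟨w, hw, h0⟩
  have h2 := congrArg a ((h.ker _).mp h1 v hv)
  rw [map_mul, map_mul, MulAut.apply_inv_self] at h2
  exact h2.symm

theorem comm_mul_right_of_commute {x y q : S} (h : x * q = q * x) : ⁅x, y * q⁆ = ⁅x, y⁆ := by
  have h' : ⁅x, q⁆ = 1 := commutatorElement_eq_one_iff_mul_comm.mpr h
  rw [show ⁅x, y * q⁆ = ⁅x, y⁆ * (y * ⁅x, q⁆ * y⁻¹) by simp only [commutatorElement_def]; group, h', mul_one,
    mul_inv_cancel, mul_one]

theorem Sides.der_le (h : Sides V C0 f) {a b : MulAut S} (ha : Moves V f a) (hb : Moves V f b) :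
    ⁅V, V.map a.toMonoidHom⁆ ≤ ⁅V, V.map b.toMonoidHom⁆ := by
  refine commutator_le.mpr ?_
  rintro v hv _ ⟨u, hu, rfl⟩
  obtain ⟨w, hw, e⟩ := h.uniq a b ha hb u hu
  have hq : f ((b w)⁻¹ * a u) = 1 := by rw [map_mul, map_inv, e, inv_mul_cancel]
  have h1 := comm_mul_right_of_commute (x := v) (y := b w) ((h.ker _).mp hq v hv)
  rw [mul_inv_cancel_left] at h1
  change ⁅v, a u⁆ ∈ _
  rw [h1]
  exact commutator_mem_commutator hv (mem_map_of_mem b.toMonoidHom hw)

/-- The commutator of two opposite images is invariant. -/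
theorem Sides.der_map (h : Sides V C0 f) {a : MulAut S} (ha : Moves V f a) :
    (⁅V, V.map a.toMonoidHom⁆).map a.toMonoidHom = ⁅V, V.map a.toMonoidHom⁆ := by
  have e : ⁅V, V.map a.toMonoidHom⁆ = ⁅V, V.map (a⁻¹ : MulAut S).toMonoidHom⁆ :=
    le_antisymm (h.der_le ha (h.moves_inv ha)) (h.der_le (h.moves_inv ha) ha)
  conv_lhs => rw [e, commutator_comm, map_commutator, Subgroup.map_map]
  have hid : (a.toMonoidHom.comp (a⁻¹ : MulAut S).toMonoidHom) = MonoidHom.id S :=
    MonoidHom.ext fun x => MulAut.apply_inv_self S a x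
  rw [hid, Subgroup.map_id]

theorem Sides.not_both_kernel (h : Sides V C0 f) {a : MulAut S} (ha : Moves V f a) {k : ℕ}
    (h0 : ¬ Moves V f (a ^ k)) (h1 : ¬ Moves V f (a ^ (k + 1))) : False := by
  obtain ⟨D, hD⟩ : ∃ D, D = ⁅V, V.map a.toMonoidHom⁆ := ⟨_, rfl⟩
  have hinv : ∀ j : ℕ, D.map (a ^ j).toMonoidHom = D := by
    intro j
    induction j with
    | zero => exact Subgroup.map_id D
    | succ j ih =>
      have : (a ^ (j + 1)).toMonoidHom = (a ^ j).toMonoidHom.comp a.toMonoidHom := by rw [pow_succ]; rfl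
      rw [this, ← Subgroup.map_map, show D.map a.toMonoidHom = D by rw [hD]; exact h.der_map ha, ih]
  have hD0 : D ≤ C0 := by
    rw [← hinv k, map_le_iff_le_comap, hD]
    refine commutator_le.mpr ?_
    rintro v hv _ ⟨u, hu, rfl⟩
    show (a ^ k).toMonoidHom ⁅v, a u⁆ ∈ C0
    rw [map_commutatorElement]
    refine h.der _ _ (by_contra fun e => h0 ⟨v, hv, e⟩) (by_contra fun e => h1 ⟨u, hu, ?_⟩)
    rw [pow_succ]; exact e
  obtain ⟨v, hv, hgen⟩ := h.gen a ha
  obtain ⟨u, hu, hfu⟩ := ha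
  refine hfu ((h.ker _).mpr fun w hw => (hgen w hw ?_ u hu).symm)
  rw [← commutatorElement_inv]
  exact inv_mem (hD0 (hD.ge (commutator_mem_commutator hw (mem_map_of_mem a.toMonoidHom hv))))

theorem Sides.not_both_moves (h : Sides V C0 f) {a : MulAut S} (ha : Moves V f a) {k : ℕ}
    (h0 : Moves V f (a ^ k)) (h1 : Moves V f (a ^ (k + 1))) : False := by
  obtain ⟨b, hb⟩ : ∃ b, b = a ^ k := ⟨_, rfl⟩
  rw [pow_succ, ← hb] at h1
  rw [← hb] at h0
  obtain ⟨v0, hv0, hgen⟩ := h.gen b h0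
  obtain ⟨w0, hw0, e⟩ := h.uniq b (b * a) h0 h1 v0 hv0
  obtain ⟨x, hx⟩ : ∃ x, x = b v0 := ⟨_, rfl⟩
  obtain ⟨y, hy⟩ : ∃ y, y = (b * a) w0 := ⟨_, rfl⟩
  rw [← hx, ← hy] at e
  have hxx : x * x = 1 := by rw [hx, ← map_mul, h.inv v0 hv0, map_one]
  have hyy : y * y = 1 := by rw [hy, ← map_mul, h.inv w0 hw0, map_one]
  have hxy : ⁅x, y⁆ ∈ C0 := by
    have hq := h.sq (x⁻¹ * y) (by rw [map_mul, map_inv, e, inv_mul_cancel])
    rw [inv_eq_of_mul_eq_one_right hxx] at hq
    rwa [commutatorElement_def, inv_eq_of_mul_eq_one_right hxx, inv_eq_of_mul_eq_one_right hyy, mul_assoc (x * y)]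
  obtain ⟨v, hv, e2⟩ := h.uniq a b⁻¹ ha (h.moves_inv h0) w0 hw0
  have hq : ∀ u ∈ V, v⁻¹ * y * b u = b u * (v⁻¹ * y) := by
    intro u hu
    have h2 : f ((b⁻¹ v)⁻¹ * a w0) = 1 := by rw [map_mul, map_inv, e2, inv_mul_cancel]
    have h3 := congrArg b ((h.ker _).mp h2 u hu)
    simp only [map_mul, map_inv, MulAut.apply_inv_self] at h3
    rw [hy]
    exact h3.symm
  have hxv : ⁅x, v⁆ ∈ C0 := by
    have h2 := comm_mul_right_of_commute (x := x) (y := v) (q := v⁻¹ * y) (by rw [hx]; exact (hq v0 hv0).symm)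
    rw [mul_inv_cancel_left] at h2
    rwa [← h2]
  have hyb : ∀ u ∈ V, y * b u = b u * y := fun u hu => by
    have h2 : b u * v = v * b u := hgen v hv (hx ▸ hxv) u hu
    calc y * b u = v * (v⁻¹ * y * b u) := by group
      _ = v * (b u * (v⁻¹ * y)) := by rw [hq u hu]
      _ = (v * b u) * (v⁻¹ * y) := by group
      _ = (b u * v) * (v⁻¹ * y) := by rw [h2]
      _ = _ := by group
  have hfy : f y = 1 := (h.ker _).mpr fun u hu => by
    obtain ⟨u', hu', e3⟩ := h.uniq (b * a)⁻¹ a⁻¹ (h.moves_inv h1) (h.moves_inv ha) u hu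
    have hq' : f ((a⁻¹ u')⁻¹ * (b * a)⁻¹ u) = 1 := by rw [map_mul, map_inv, e3, inv_mul_cancel]
    have h4 : w0 * (b * a)⁻¹ u = (b * a)⁻¹ u * w0 := by
      have h5 : w0 * a⁻¹ u' = a⁻¹ u' * w0 := by
        have h6 := congrArg ((b * a)⁻¹ : MulAut S) (hyb u' hu')
        have h7 : ((b * a)⁻¹ : MulAut S) (b u') = a⁻¹ u' := by
          rw [← MulAut.mul_apply, mul_inv_rev, mul_assoc, inv_mul_cancel, mul_one]
        rw [map_mul, map_mul, hy, MulAut.inv_apply_self, h7] at h6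
        exact h6
      have h8 := (h.ker _).mp hq' w0 hw0
      generalize (a⁻¹ u') = c at h5 h8
      generalize ((b * a)⁻¹ u) = d at h8 ⊢
      calc w0 * d = (w0 * c) * (c⁻¹ * d) := by group
        _ = (c * w0) * (c⁻¹ * d) := by rw [h5]
        _ = c * (w0 * (c⁻¹ * d)) := by group
        _ = c * ((c⁻¹ * d) * w0) := by rw [h8]
        _ = _ := by group
    have h9 := congrArg (b * a) h4
    rw [map_mul, map_mul, MulAut.apply_inv_self] at h9
    rw [hy]
    exact h9.symm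
  obtain ⟨u, hu, hfu⟩ := h0
  refine hfu ((h.ker _).mpr fun w hw => (hgen w hw ?_ u hu).symm)
  rw [← hx, commutatorElement_eq_one_iff_mul_comm.mpr (((h.ker x).mp (e.trans hfy) w hw).symm)]
  exact one_mem _

/-- No automorphism of odd order moves `V`. -/
theorem Sides.fix_of_odd (h : Sides V C0 f) {a : MulAut S} (ha : Odd (orderOf a)) : ∀ v ∈ V, f (a v) = 1 := by
  by_contra hn
  push Not at hn
  have hm : Moves V f a := hn
  have h1 : ¬ Moves V f (a ^ 0) := by
    rintro ⟨v, hv, e⟩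
    exact e ((h.ker _).mpr fun w hw => by rw [pow_zero, MulAut.one_apply]; exact h.comm w hw v hv)
  have hpar : ∀ k : ℕ, Moves V f (a ^ k) ↔ Odd k := by
    intro k
    induction k with
    | zero => simpa using h1
    | succ k ih =>
      rw [Nat.odd_add_one, ← ih]
      exact ⟨fun h2 h3 => h.not_both_moves hm h3 h2, fun h2 => by_contra fun h3 => h.not_both_kernel hm h2 h3⟩
  have := (hpar (orderOf a)).mpr ha
  rw [pow_orderOf_eq_one, ← pow_zero a] at this
  exact h1 this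

end Cfsg.Agent.Fus.PushBlocks.OddAut
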