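import Cfsg.Agent.Lib.Fus.PushBlocks.Clauses
import Cfsg.Agent.Lib.Fus.PushBlocks.OddAut.Parity
import Cfsg.Agent.Lib.Fus.PushBlocks.OddAut.Offender

/-!
# Odd automorphisms of the Sylow 2-subgroup of a pushing-up group keep `V` inside the core
-/

set_option autoImplicit false
set_option linter.unusedSectionVars false
set_option linter.style.haveILetI false

open scoped commutatorElement Matrix

namespace Cfsg.Agent.Fus.PushBlocks

open Subgroup Cfsg.Agent.Grp Cfsg.Agent.Grp.OffenderSL2 Cfsg.Agent.Fus.MinModule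
open Cfsg.Agent.Fus.CharTransfer (act modW Amb)
open Cfsg.Agent.Fus.CStarStar (mod)

universe u

variable {G : Type u} [Group G] [Finite G] [Fact (Nat.Prime 2)]
variable {T : Sylow 2 G} {M : Subgroup G} {r : ℕ} {F : Fin r → Subgroup (Amb (mod 2 G))}

namespace Blks

variable (B : Blks T M F)
include B

theorem Qb_le_mod (i : Fin r) : Qb T (F i) ≤ mod 2 G := by
  haveI hm : (mod 2 G).Normal := CStarStar.mod_normal
  obtain ⟨n, hn, ⟨L, iL, fL, ρ, lam, hL, h⟩ | ⟨hp, ρ, lam, h⟩⟩ := models B.ctx.vh B.ctx.blk i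
  · obtain ⟨H, L', iL', fL', Sy, fr, D⟩ := B.exists_slb i hn hL h
    rcases (rank_cases D.noChar D.vertex).1 with ⟨-, hW⟩ | hE
    · exact (SLB.core_one B D hW).le.trans ((SLB.Wm_le B D).trans (commutator_le_left _ _))
    · exact absurd hE.three (by norm_num)
  · exact (B.perm_core hn hp h).1.le.trans (commutator_le_left _ _)

/-- The residual moves the core into the module. -/
theorem residual_move {c q : G} (hc : c ∈ pgen 2 G) (hq : q ∈ Cfsg.pCore 2 G) : ⁅c, q⁆ ∈ mod 2 G := by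
  haveI hm : (mod 2 G).Normal := CStarStar.mod_normal
  haveI hQn : (Cfsg.pCore 2 G).Normal := Grp.pCore_isNormal
  let S : Subgroup G :=
    { carrier := {g | ∀ q ∈ Cfsg.pCore 2 G, ⁅g, q⁆ ∈ mod 2 G}
      one_mem' := fun q _ => by rw [commutatorElement_one_left]; exact one_mem _
      mul_mem' := fun {a b} ha hb q hq => by
        rw [show ⁅a * b, q⁆ = a * ⁅b, q⁆ * a⁻¹ * ⁅a, q⁆ by simp only [commutatorElement_def]; group]
        exact mul_mem (hm.conj_mem _ (hb q hq) a) (ha q hq)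
      inv_mem' := fun {a} ha q hq => by
        rw [show ⁅a⁻¹, q⁆ = a⁻¹ * ⁅a, q⁆⁻¹ * a⁻¹⁻¹ by simp only [commutatorElement_def]; group]
        exact hm.conj_mem _ (inv_mem (ha q hq)) _ }
  have hS : pgen 2 G ≤ S := B.sup_Eb ▸ iSup_le fun i e he q hq => B.Qb_le_mod i (mem_inf.mpr ⟨by
      have hn : q ∈ normalizer (Eb T (F i) : Set G) := B.norm_Eb (by
        rw [show phi 2 G q = 1 from MonoidHom.mem_ker.mp (B.set.phi_ker.ge hq)]; exact one_mem _)
      rw [commutatorElement_def, show e * q * e⁻¹ * q⁻¹ = e * (q * e⁻¹ * q⁻¹) by group]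
      exact mul_mem he ((mem_normalizer_iff.mp hn _).mp (inv_mem he)), by
      rw [commutatorElement_def]; exact mul_mem (hQn.conj_mem q hq e) (inv_mem hq)⟩)
  exact hS hc q hq

/-- What the residual fixes, the block fixes. -/
theorem fix_of_image (i : Fin r) {u : Amb (mod 2 G)} (hu : u ∈ modW (mod 2 G))
    (h : ∀ e ∈ Eb T (F i), phi 2 G e * u = u * phi 2 G e) : u ∈ centralizer (F i : Set (Amb (mod 2 G))) := by
  classical
  haveI hm : (mod 2 G).Normal := CStarStar.mod_normal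
  have himg : ∀ e ∈ Eb T (F i), phi 2 G e ∈ F i := fun e he => B.Eb_image_le i (mem_map_of_mem _ he)
  obtain ⟨n, hn, ⟨L, iL, fL, ρ, lam, hL, hc⟩ | ⟨hp, ρ, lam, hc⟩⟩ := models B.ctx.vh B.ctx.blk i
  · obtain ⟨ρE, hρE, hrange, -⟩ := B.sl_hom hn hL hc
    have hfix : ∀ g ∈ commutator (Matrix.SpecialLinearGroup (Fin 2) L),
        (g : Matrix (Fin 2) (Fin 2) L) *ᵥ lam u = lam u := by
      intro g hg
      obtain ⟨e, rfl⟩ := hrange.ge hg
      rw [hρE e (himg e e.2), ← hc.act _ u hu]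
      exact congrArg lam (mul_inv_eq_iff_eq_mul.mpr (h e e.2))
    obtain ⟨s, hs⟩ : ∃ s : Matrix.SpecialLinearGroup (Fin 2) L, s = ⟨!![0, 1; -1, 0], by simp [Matrix.det_fin_two]⟩ :=
      ⟨_, rfl⟩
    obtain ⟨t, ht⟩ : ∃ t : Matrix.SpecialLinearGroup (Fin 2) L, t = ⟨!![1, 1; 0, 1], by simp [Matrix.det_fin_two]⟩ :=
      ⟨_, rfl⟩
    have e := hfix ⁅s, t⁆ (commutator_mem_commutator (mem_top s) (mem_top t))
    rw [show ((⁅s, t⁆ : Matrix.SpecialLinearGroup (Fin 2) L) : Matrix (Fin 2) (Fin 2) L) = !![1, -1; -1, 2] by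
      rw [show ⁅s, t⁆ = s * t * s⁻¹ * t⁻¹ from commutatorElement_def s t]
      rw [Matrix.SpecialLinearGroup.coe_mul, Matrix.SpecialLinearGroup.coe_mul, Matrix.SpecialLinearGroup.coe_mul,
        Matrix.SpecialLinearGroup.coe_inv, Matrix.SpecialLinearGroup.coe_inv,
        show (s : Matrix (Fin 2) (Fin 2) L) = !![0, 1; -1, 0] from congrArg Subtype.val hs,
        show (t : Matrix (Fin 2) (Fin 2) L) = !![1, 1; 0, 1] from congrArg Subtype.val ht,
        Matrix.adjugate_fin_two, Matrix.adjugate_fin_two]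
      ext i j
      fin_cases i <;> fin_cases j <;> simp [Matrix.mul_apply, Fin.sum_univ_two]
      norm_num] at e
    have e0 := congrFun e 0
    have e1 := congrFun e 1
    simp [Matrix.mulVec, dotProduct, Fin.sum_univ_two] at e0 e1
    have h0 : lam u = 0 := funext fun j => by
      fin_cases j <;> simp <;> grind
    exact ((hc.ker u hu).mp h0).2
  · obtain ⟨ρE, hρE, hrange, -⟩ := B.perm_hom hn hp hc
    have hfix : ∀ g ∈ alternatingGroup (Fin (2 ^ n + 1)), ∀ j, lam u (g⁻¹ j) = lam u j := by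
      intro g hg j
      obtain ⟨e, rfl⟩ := hrange.ge hg
      rw [hρE e (himg e e.2), ← hc.act _ u hu j]
      exact congrFun (congrArg lam (mul_inv_eq_iff_eq_mul.mpr (h e e.2))) j
    have h3 : 3 ≤ Fintype.card (Fin (2 ^ n + 1)) := by
      rw [Fintype.card_fin]
      have : 2 ≤ 2 ^ n := (pow_one 2).ge.trans (Nat.pow_le_pow_right (by norm_num) hn)
      omega
    have hconst : ∀ a b, lam u a = lam u b := by
      intro a b
      rcases eq_or_ne a b with rfl | hab
      · rfl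
      obtain ⟨c, hc'⟩ : (({a, b} : Finset (Fin (2 ^ n + 1)))ᶜ).Nonempty := by
        rw [← Finset.card_pos, Finset.card_compl]
        have := Finset.card_le_two (a := a) (b := b)
        omega
      simp only [Finset.mem_compl, Finset.mem_insert, Finset.mem_singleton, not_or] at hc'
      have hmem : Equiv.swap b c * Equiv.swap a c ∈ alternatingGroup (Fin (2 ^ n + 1)) := by
        rw [Equiv.Perm.mem_alternatingGroup, map_mul, Equiv.Perm.sign_swap (Ne.symm hc'.2),
          Equiv.Perm.sign_swap (Ne.symm hc'.1)]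
        rfl
      have h1 := hfix _ hmem b
      rwa [Equiv.Perm.inv_eq_iff_eq.mpr (show b = (Equiv.swap b c * Equiv.swap a c) a by
        rw [Equiv.Perm.mul_apply, Equiv.swap_apply_left, Equiv.swap_apply_right])] at h1
    have h0 : lam u = 0 := funext fun j => by
      have hs := hc.sum u hu
      rw [Finset.sum_congr rfl (fun k _ => hconst k j), Finset.sum_const, Finset.card_univ, Fintype.card_fin,
        nsmul_eq_mul] at hs
      simpa [show ((2 ^ n + 1 : ℕ) : ZMod 2) = 1 by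
        rw [Nat.cast_add, Nat.cast_pow, show ((2 : ℕ) : ZMod 2) = 0 from rfl, zero_pow (by omega)]; simp] using hs
    exact ((hc.ker u hu).mp h0).2

end Blks

/-- The module inside the Sylow subgroup. -/
abbrev Vt (T : Sylow 2 G) : Subgroup ↥(T : Subgroup G) := (mod 2 G).subgroupOf (T : Subgroup G)

/-- The action of the Sylow subgroup on the module. -/
abbrev ft (T : Sylow 2 G) : ↥(T : Subgroup G) →* Amb (mod 2 G) := (phi 2 G).comp (T : Subgroup G).subtype

theorem ft_one_iff {x : ↥(T : Subgroup G)} : ft T x = 1 ↔ ∀ v ∈ Vt T, v * x = x * v := by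
  haveI hm : (mod 2 G).Normal := CStarStar.mod_normal
  show act (mod 2 G) (x : G) = 1 ↔ _
  rw [CharTransfer.act_one_iff, mem_centralizer_iff]
  exact ⟨fun h v hv => Subtype.ext (h v (mem_subgroupOf.mp hv)), fun h v hv => congrArg Subtype.val
    (h ⟨v, Grp.pCore_le_sylow T (mod_le T hv)⟩ (mem_subgroupOf.mpr hv))⟩

/-- The image of an automorphic copy of the module. -/
abbrev imG (T : Sylow 2 G) (a : MulAut ↥(T : Subgroup G)) : Subgroup (Amb (mod 2 G)) :=
  ((Vt T).map a.toMonoidHom).map (ft T)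

theorem imG_ne_bot {a : MulAut ↥(T : Subgroup G)} (h : OddAut.Moves (Vt T) (ft T) a) : imG T a ≠ ⊥ := by
  obtain ⟨v, hv, hfv⟩ := h
  exact fun e => hfv (mem_bot.mp (e.le (mem_map_of_mem _ (mem_map_of_mem _ hv))))

theorem Vt_pow {v : ↥(T : Subgroup G)} (hv : v ∈ Vt T) : v ^ 2 = 1 :=
  Subtype.ext (Invol.BlockPair.omegaOneCenter_pow_eq _ (mem_subgroupOf.mp hv))

theorem Vt_comm {v w : ↥(T : Subgroup G)} (hv : v ∈ Vt T) (hw : w ∈ Vt T) : v * w = w * v :=
  Subtype.ext (CStarStar.mod_comm (mem_subgroupOf.mp hv) (mem_subgroupOf.mp hw))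

theorem imG_normal (a : MulAut ↥(T : Subgroup G)) :
    ∀ t ∈ (T : Subgroup G).map (phi 2 G), cj t (imG T a) = imG T a := by
  haveI hm : (mod 2 G).Normal := CStarStar.mod_normal
  haveI hn : (Vt T).Normal := hm.subgroupOf _
  haveI hn' : ((Vt T).map a.toMonoidHom).Normal := hn.map a.toMonoidHom a.surjective
  rintro _ ⟨t, ht, rfl⟩
  refine eq_of_le_of_card_ge (RootPair.cj_le.mpr ?_) (card_cj _ _).ge
  rintro _ ⟨y, hy, rfl⟩
  refine ⟨⟨t, ht⟩ * y * ⟨t, ht⟩⁻¹, hn'.conj_mem y hy _, ?_⟩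
  show phi 2 G ((⟨t, ht⟩ * y * ⟨t, ht⟩⁻¹ : ↥(T : Subgroup G)) : G) = _
  simp [map_mul, map_inv]

theorem imG_count (a : MulAut ↥(T : Subgroup G)) :
    ∃ k k' : ℕ, Nat.card ↥(imG T a) * k = Nat.card ↥(modW (mod 2 G)) ∧
      Nat.card ↥(imG T a⁻¹) * k' = Nat.card ↥(modW (mod 2 G)) ∧
      Nat.card ↥(modW (mod 2 G) ⊓ centralizer (imG T a : Set (Amb (mod 2 G)))) = k' ∧
      Nat.card ↥(modW (mod 2 G) ⊓ centralizer (imG T a⁻¹ : Set (Amb (mod 2 G)))) = k := by
  haveI hm : (mod 2 G).Normal := CStarStar.mod_normal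
  obtain ⟨g, hg⟩ : ∃ g : MulAut ↥(T : Subgroup G) → (↥(Vt T) →* Amb (mod 2 G)),
      ∀ b, g b = ((ft T).comp b.toMonoidHom).domRestrict (Vt T) := ⟨_, fun _ => rfl⟩
  have hVT : mod 2 G ≤ (T : Subgroup G) := (mod_le T).trans (Grp.pCore_le_sylow T)
  have hmodcard : Nat.card ↥(modW (mod 2 G)) = Nat.card ↥(Vt T) := by
    rw [modW, MonoidHom.range_eq_map, card_map_of_injective SemidirectProduct.inl_injective, card_top,
      Nat.card_congr (subgroupOfEquivOfLe hVT).toEquiv]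
  have hcount : ∀ b, Nat.card ↥(imG T b) * Nat.card (g b).ker = Nat.card ↥(modW (mod 2 G)) := by
    intro b
    have h1 := (g b).ker.index_mul_card
    rw [index_ker] at h1
    rw [hmodcard, ← h1]
    congr 2
    rw [hg, MonoidHom.domRestrict_range, imG, Subgroup.map_map]
  have hfix : ∀ b, Nat.card ↥(modW (mod 2 G) ⊓ centralizer (imG T b : Set (Amb (mod 2 G)))) = Nat.card (g b⁻¹).ker := by
    intro b
    obtain ⟨Xg, hXg⟩ : ∃ Xg, Xg = ((Vt T).map b.toMonoidHom).map (T : Subgroup G).subtype := ⟨_, rfl⟩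
    rw [show imG T b = Xg.map (phi 2 G) by rw [hXg, imG, Subgroup.map_map (f := (T : Subgroup G).subtype)],
      CharTransfer.card_fix,
      show mod 2 G ⊓ centralizer (Xg : Set G) = ((g b⁻¹).ker.map (Vt T).subtype).map (T : Subgroup G).subtype from ?_,
      card_map_of_injective (T : Subgroup G).subtype_injective, card_map_of_injective (Vt T).subtype_injective]
    ext w
    constructor
    · rintro ⟨hw, hc⟩
      refine ⟨⟨w, hVT hw⟩, ⟨⟨⟨w, hVT hw⟩, mem_subgroupOf.mpr hw⟩, ?_, rfl⟩, rfl⟩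
      refine MonoidHom.mem_ker.mpr ?_
      rw [hg]
      show ft T (b⁻¹ ⟨w, hVT hw⟩) = 1
      refine ft_one_iff.mpr fun v hv => ?_
      have h1 : (b v : ↥(T : Subgroup G)) * ⟨w, hVT hw⟩ = ⟨w, hVT hw⟩ * b v := Subtype.ext
        (mem_centralizer_iff.mp hc _ (hXg.ge (mem_map_of_mem _ (mem_map_of_mem _ hv))))
      have h2 := congrArg (b⁻¹ : MulAut ↥(T : Subgroup G)) h1
      simpa [map_mul, MulAut.inv_apply_self] using h2
    · rintro ⟨_, ⟨⟨x, hx⟩, hker, rfl⟩, rfl⟩
      refine ⟨mem_subgroupOf.mp hx, mem_centralizer_iff.mpr ?_⟩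
      intro y hy
      obtain ⟨_, ⟨v, hv, rfl⟩, rfl⟩ := hXg.le hy
      rw [hg] at hker
      have h1 := congrArg b (ft_one_iff.mp hker v hv)
      simp only [map_mul, MulEquiv.coe_toMonoidHom, MonoidHom.comp_apply, MulAut.apply_inv_self] at h1
      exact congrArg Subtype.val h1
  refine ⟨_, _, hcount a, hcount a⁻¹, hfix a, ?_⟩
  rw [hfix, inv_inv]

namespace Blks

variable (B : Blks T M F)
include B

theorem imG_off (a : MulAut ↥(T : Subgroup G)) :
    Off (modW (mod 2 G)) ((T : Subgroup G).map (phi 2 G)) (imG T a) := by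
  obtain ⟨k, k', h1, h2, h3, h4⟩ := imG_count (T := T) a
  have hcomm : ∀ b : MulAut ↥(T : Subgroup G), ∀ x ∈ imG T b, ∀ y ∈ imG T b, x * y = y * x := by
    rintro b _ ⟨_, ⟨v, hv, rfl⟩, rfl⟩ _ ⟨_, ⟨w, hw, rfl⟩, rfl⟩
    rw [← map_mul, ← map_mul, ← map_mul, ← map_mul, Vt_comm hv hw]
  have hle : ∀ b : MulAut ↥(T : Subgroup G), imG T b ≤ (T : Subgroup G).map (phi 2 G) := by
    rintro b _ ⟨y, -, rfl⟩
    exact mem_map_of_mem _ y.2
  by_cases hk : k ≤ k'
  · exact ⟨hle a, hcomm a, by rw [h3, ← h1]; exact Nat.mul_le_mul_left _ hk⟩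
  · push Not at hk
    have hoff : Off (modW (mod 2 G)) ((T : Subgroup G).map (phi 2 G)) (imG T a⁻¹) :=
      ⟨hle _, hcomm _, by rw [h4, ← h2]; exact Nat.mul_le_mul_left _ hk.le⟩
    have hu := (offender_exact B.ctx.vh B.ctx.blk B.ctx.syl.1 B.ctx.syl.2.1 hoff).upper
    rw [h4, ← h2] at hu
    exact absurd (Nat.le_of_mul_le_mul_left hu Nat.card_pos) (not_le.mpr hk)

/-- The family of the normal offenders. -/
theorem normal_ctx {a : MulAut ↥(T : Subgroup G)} (ha : OddAut.Moves (Vt T) (ft T) a) :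
    Ctx 2 (modW (mod 2 G)) (phi 2 G).range ((T : Subgroup G).map (phi 2 G)) F
      {X | Off (modW (mod 2 G)) ((T : Subgroup G).map (phi 2 G)) X ∧
        ∀ t ∈ (T : Subgroup G).map (phi 2 G), cj t X = X} :=
  ⟨B.ctx.vh, B.ctx.blk, B.ctx.syl, fun _ hX => hX.1, fun t ht X hX => by rw [hX.2 t ht]; exact hX,
    ⟨_, ⟨B.imG_off a, imG_normal a⟩, imG_ne_bot ha⟩⟩

theorem sides : OddAut.Sides (Vt T) ((centralizer (pgen 2 G : Set G)).subgroupOf (T : Subgroup G)) (ft T) := by
  haveI hm : (mod 2 G).Normal := CStarStar.mod_normal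
  have hVQ : ∀ d ∈ mod 2 G, ∀ q ∈ Cfsg.pCore 2 G, q * d = d * q := fun d hd q hq =>
    (mem_centralizer_iff.mp (CStarStar.core_le_cent hq) d hd).symm
  have hcore : ∀ q : ↥(T : Subgroup G), ft T q = 1 → (q : G) ∈ Cfsg.pCore 2 G := fun q hq =>
    B.set.phi_ker.le (MonoidHom.mem_ker.mpr hq)
  refine ⟨fun _ => ft_one_iff, fun v hv w hw => Vt_comm hv hw, fun v hv => by rw [← pow_two]; exact Vt_pow hv,
    fun q hq => ?_, fun q q' hq hq' => ?_, fun a b ha hb v hv => ?_, fun a ha => ?_⟩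
  · refine mem_subgroupOf.mpr (mem_centralizer_iff.mpr fun e he => ?_)
    obtain ⟨x, hx, hxQ⟩ : ∃ x : G, x = (q : G) ∧ x ∈ Cfsg.pCore 2 G := ⟨_, rfl, hcore q hq⟩
    have hd := B.residual_move he hxQ
    rw [show ((q * q : ↥(T : Subgroup G)) : G) = x * x by rw [hx]; rfl]
    have hd2 : ⁅e, x⁆ * ⁅e, x⁆ = 1 := by rw [← pow_two]; exact Invol.BlockPair.omegaOneCenter_pow_eq _ hd
    have hxd := hVQ _ hd x hxQ
    obtain ⟨d, hd'⟩ : ∃ d, d = ⁅e, x⁆ := ⟨_, rfl⟩
    rw [← hd'] at hd2 hxd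
    have he' : e * x = d * x * e := by rw [hd', commutatorElement_def]; group
    calc e * (x * x) = (e * x) * x := by group
      _ = (d * x * e) * x := by rw [he']
      _ = d * x * (e * x) := by group
      _ = d * x * (d * x * e) := by rw [he']
      _ = d * (x * d) * x * e := by group
      _ = d * (d * x) * x * e := by rw [hxd]
      _ = (d * d) * (x * x * e) := by group
      _ = _ := by rw [hd2, one_mul]
  · refine mem_subgroupOf.mpr (mem_centralizer_iff.mpr fun e he => ?_)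
    have hd := B.residual_move he (hcore q hq)
    have hd' := B.residual_move he (hcore q' hq')
    show e * ((⁅q, q'⁆ : ↥(T : Subgroup G)) : G) = ((⁅q, q'⁆ : ↥(T : Subgroup G)) : G) * e
    rw [show ((⁅q, q'⁆ : ↥(T : Subgroup G)) : G) = ⁅(q : G), (q' : G)⁆ from map_commutatorElement (T : Subgroup G).subtype q q']
    have hx := hcore q hq
    have hy := hcore q' hq'
    generalize (q : G) = x at hx hd ⊢
    generalize (q' : G) = y at hy hd' ⊢
    have h1 := hVQ _ hd y hy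
    have h2 := hVQ _ hd' x hx
    have h3 := CStarStar.mod_comm hd hd'
    have e1 : e * x * e⁻¹ = ⁅e, x⁆ * x := by rw [commutatorElement_def]; group
    have e2 : e * y * e⁻¹ = ⁅e, y⁆ * y := by rw [commutatorElement_def]; group
    generalize ⁅e, x⁆ = d at hd h1 h3 e1
    generalize ⁅e, y⁆ = d' at hd' h2 h3 e2
    rw [← mul_inv_eq_iff_eq_mul, show e * ⁅x, y⁆ * e⁻¹ = ⁅e * x * e⁻¹, e * y * e⁻¹⁆ by
      simp only [commutatorElement_def]; group, e1, e2]
    have c1 : Commute d (d' * y) := (show Commute d d' from h3).mul_right (show Commute y d from h1).symm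
    have c2 : Commute x d' := h2
    have c3 : Commute d' ⁅x, y⁆ := by
      have hq : ∀ z ∈ Cfsg.pCore 2 G, Commute d' z := fun z hz => (show Commute z d' from hVQ _ hd' z hz).symm
      exact hq _ (by
        rw [commutatorElement_def]; exact mul_mem (mul_mem (mul_mem hx hy) (inv_mem hx)) (inv_mem hy))
    have c4 : Commute d ⁅x, y⁆ := by
      have hq : ∀ z ∈ Cfsg.pCore 2 G, Commute d z := fun z hz => (show Commute z d from hVQ _ hd z hz).symm
      exact hq _ (by
        rw [commutatorElement_def]; exact mul_mem (mul_mem (mul_mem hx hy) (inv_mem hx)) (inv_mem hy))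
    rw [show ⁅d * x, d' * y⁆ = d * ⁅x, d' * y⁆ * d⁻¹ * ⁅d, d' * y⁆ by simp only [commutatorElement_def]; group,
      commutatorElement_eq_one_iff_mul_comm.mpr c1.eq, mul_one,
      show ⁅x, d' * y⁆ = ⁅x, d'⁆ * (d' * ⁅x, y⁆ * d'⁻¹) by simp only [commutatorElement_def]; group,
      commutatorElement_eq_one_iff_mul_comm.mpr c2.eq, one_mul, c3.eq, mul_inv_cancel_right, c4.eq,
      mul_inv_cancel_right]
  · have e : imG T a = imG T b := Ctx.normal_unique (B.normal_ctx ha) ⟨B.imG_off a, imG_normal a⟩ (imG_normal a)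
      (imG_ne_bot ha) ⟨B.imG_off b, imG_normal b⟩ (imG_normal b) (imG_ne_bot hb)
    obtain ⟨_, ⟨w, hw, rfl⟩, hwe⟩ := e.le (mem_map_of_mem _ (mem_map_of_mem a.toMonoidHom hv))
    exact ⟨w, hw, hwe.symm⟩
  · obtain ⟨x, hx, hgen⟩ := Ctx.exists_generic (B.normal_ctx ha) ⟨B.imG_off a, imG_normal a⟩ (imG_normal a)
      (imG_ne_bot ha)
    obtain ⟨_, ⟨v0, hv0, rfl⟩, rfl⟩ := hx
    refine ⟨v0, hv0, fun w hw hc u hu => ?_⟩
    have hwm : (w : G) ∈ mod 2 G := mem_subgroupOf.mp hw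
    obtain ⟨z, hz⟩ : ∃ z : G, z = ((⁅a v0, w⁆ : ↥(T : Subgroup G)) : G) := ⟨_, rfl⟩
    have hz' : z = ((a v0 : ↥(T : Subgroup G)) : G) * (w : G) * ((a v0 : ↥(T : Subgroup G)) : G)⁻¹ * (w : G)⁻¹ := by
      rw [hz, commutatorElement_def]; rfl
    have hzm : z ∈ mod 2 G := by rw [hz']; exact mul_mem (hm.conj_mem _ hwm _) (inv_mem hwm)
    have hzc : z ∈ centralizer (pgen 2 G : Set G) := hz ▸ mem_subgroupOf.mp hc
    have hmem := hgen (SemidirectProduct.inl ⟨(w : G), hwm⟩) ⟨_, rfl⟩ fun i => by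
      have hcomm : ⁅ft T (a.toMonoidHom v0), (SemidirectProduct.inl ⟨(w : G), hwm⟩ : Amb (mod 2 G))⁆ =
          SemidirectProduct.inl ⟨z, hzm⟩ := by
        rw [commutatorElement_def]
        show act (mod 2 G) ((a v0 : ↥(T : Subgroup G)) : G) * _ * (act (mod 2 G) ((a v0 : ↥(T : Subgroup G)) : G))⁻¹ * _ = _
        rw [CharTransfer.act_inl, ← map_inv, ← map_mul]
        exact congrArg _ (Subtype.ext (by simp [hz', MulAut.conjNormal_apply, mul_assoc]))
      rw [hcomm]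
      refine B.fix_of_image i ⟨_, rfl⟩ fun e he => (inl_comm_iff (w := ⟨z, hzm⟩) rfl).mpr ?_
      exact mem_centralizer_iff.mp hzc e (B.sup_Eb ▸ le_iSup (fun i => Eb T (F i)) i he)
    have h1 := mem_centralizer_iff.mp hmem _ (mem_map_of_mem (ft T) (mem_map_of_mem a.toMonoidHom hu))
    exact Subtype.ext ((inl_comm_iff (w := ⟨(w : G), hwm⟩) rfl).mp h1)

/-- An automorphism of odd order keeps the module inside the core. -/
theorem odd_aut_core {a : MulAut ↥(T : Subgroup G)} (ha : Odd (orderOf a)) {v : ↥(T : Subgroup G)} (hv : v ∈ Vt T) :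
    ((a v : ↥(T : Subgroup G)) : G) ∈ Cfsg.pCore 2 G :=
  B.set.phi_ker.le (MonoidHom.mem_ker.mpr (B.sides.fix_of_odd ha v hv))

end Blks

end Cfsg.Agent.Fus.PushBlocks
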