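import Cfsg.Agent.Lib.Fus.LocalCStar.GJoin
import Cfsg.Agent.Lib.Fus.PushBlocks.OddAut.Main

/-!
# A normal subgroup invariant under a group of automorphisms of odd order of the Sylow 2-subgroup
-/

set_option autoImplicit false
set_option linter.unusedSectionVars false
set_option linter.style.haveILetI false

open scoped commutatorElement

namespace Cfsg.Agent.Fus.PushBlocks

open Subgroup Cfsg.Agent.Grp Cfsg.Agent.Grp.OffenderSL2 Cfsg.Agent.Fus.MinModule
open Cfsg.Agent.Fus.CharTransfer (act modW Amb)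
open Cfsg.Agent.Fus.CStarStar (mod)

universe u

variable {G : Type u} [Group G] [Finite G] [Fact (Nat.Prime 2)]

theorem char_invariant {T C : Subgroup G} (hch : (C.subgroupOf T).Characteristic) (a : MulAut ↥T) (x : ↥T)
    (hx : (x : G) ∈ C) : ((a x : ↥T) : G) ∈ C :=
  mem_subgroupOf.mp (characteristic_iff_map_le.mp hch a (mem_map_of_mem _ (mem_subgroupOf.mpr hx)))

theorem exists_invariant (hmin : Cfsg.IsPMinimal 2 G)
    (hG : centralizer (Cfsg.pCore 2 G : Set G) ≤ Cfsg.pCore 2 G) (T : Sylow 2 G)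
    (A : Subgroup (MulAut ↥(T : Subgroup G))) (hA : Odd (Nat.card A)) :
    ∃ U : Subgroup G, U ≠ ⊥ ∧ U.Normal ∧ U ≤ (T : Subgroup G) ∧
      ∀ a ∈ A, ∀ x : ↥(T : Subgroup G), (x : G) ∈ U → ((a x : ↥(T : Subgroup G)) : G) ∈ U := by
  classical
  have hT : (T : Subgroup G) ≠ ⊥ := fun h => (hmin T).1 (by rw [h]; infer_instance)
  obtain ⟨z, hzT, hz⟩ : ∃ z ∈ Cfsg.omegaOneCenter 2 (T : Subgroup G), z ≠ 1 := by
    haveI : Nontrivial ↥(T : Subgroup G) := (nontrivial_iff_ne_bot _).mpr hT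
    haveI := T.isPGroup'.center_nontrivial
    obtain ⟨k, hk, hcard⟩ := (T.isPGroup'.to_subgroup (center ↥(T : Subgroup G))).nontrivial_iff_card.mp inferInstance
    obtain ⟨z, hz⟩ := exists_prime_orderOf_dvd_card' (G := ↥(center ↥(T : Subgroup G))) 2
      (hcard ▸ dvd_pow_self 2 hk.ne')
    refine ⟨((z : ↥(T : Subgroup G)) : G), Invol.BlockPair.mem_omegaOneCenter (z : ↥(T : Subgroup G)).2
      (mem_centralizer_iff.mpr fun y hy => congrArg Subtype.val (Subgroup.mem_center_iff.mp z.2 ⟨y, hy⟩)) ?_,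
      fun e => ?_⟩
    · have h2 := pow_orderOf_eq_one z
      rw [hz] at h2
      have := congrArg (fun w : ↥(center ↥(T : Subgroup G)) => ((w : ↥(T : Subgroup G)) : G)) h2
      simpa using this
    · have : z = 1 := Subtype.ext (Subtype.ext e)
      rw [this, orderOf_one] at hz
      exact absurd hz (by norm_num)
  by_cases hc : ∃ C : Subgroup G, C ≤ bau T ∧ C ≠ ⊥ ∧ (C.subgroupOf (bau T)).Characteristic ∧ C.Normal
  · obtain ⟨C, hCb, hne, hch, hn⟩ := hc
    exact ⟨C, hne, hn, hCb.trans (bau_le T), fun a _ x hx => char_invariant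
      (LocalCStar.char_chain (bau_le T) (LocalCStar.baumann_char T) hCb hch) a x hx⟩
  push Not at hc
  by_cases hzn : (Cfsg.omegaOneCenter 2 (T : Subgroup G)).Normal
  · exact ⟨_, fun e => hz (mem_bot.mp (e.le hzT)), hzn,
      (Invol.BlockPair.omegaOneCenter_le _).trans inf_le_left,
      fun a _ x hx => char_invariant (LocalCStar.omega_char T) a x hx⟩
  obtain ⟨M, hS⟩ := exists_setup hmin hG hc hzn
  obtain ⟨r, F, B⟩ := hS.blks
  have hmod : mod 2 G ≠ ⊥ := by
    intro h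
    refine hz (mem_bot.mp (h.le ?_))
    have hzc : z ∈ centralizer (Cfsg.pCore 2 G : Set G) :=
      centralizer_le (SetLike.coe_subset_coe.mpr (Grp.pCore_le_sylow T))
        ((Invol.BlockPair.omegaOneCenter_le _ hzT).2)
    exact Invol.BlockPair.mem_omegaOneCenter (hG hzc) hzc (Invol.BlockPair.omegaOneCenter_pow_eq _ hzT)
  obtain ⟨Ut, hUt⟩ : ∃ Ut : Subgroup ↥(T : Subgroup G),
      Ut = ⨆ a : A, (Vt T).map (a : MulAut ↥(T : Subgroup G)).toMonoidHom := ⟨_, rfl⟩
  have hVle : Vt T ≤ Ut := by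
    rw [hUt]
    refine le_iSup_of_le (1 : A) (le_of_eq ?_)
    exact (Subgroup.map_id _).symm
  have hodd : ∀ a : A, Odd (orderOf (a : MulAut ↥(T : Subgroup G))) := fun a =>
    hA.of_dvd_nat (by rw [Subgroup.orderOf_coe]; exact orderOf_dvd_natCard a)
  have hUQ : ∀ x ∈ Ut, (x : G) ∈ Cfsg.pCore 2 G := by
    have hle : Ut ≤ (Cfsg.pCore 2 G).subgroupOf (T : Subgroup G) := by
      rw [hUt]
      refine iSup_le fun a => ?_
      rintro _ ⟨v, hv, rfl⟩
      exact mem_subgroupOf.mpr (B.odd_aut_core (hodd a) hv)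
    exact fun x hx => mem_subgroupOf.mp (hle hx)
  haveI hUn : Ut.Normal := by
    haveI hm : (mod 2 G).Normal := CStarStar.mod_normal
    refine normalizer_eq_top_iff.mp (eq_top_iff.mpr fun t _ => RootPair.norm_of_cj
      (eq_of_le_of_card_ge ?_ (card_cj _ _).ge))
    rw [cj, hUt, Subgroup.map_iSup]
    refine iSup_mono fun a => ?_
    rintro _ ⟨y, hy, rfl⟩
    exact ((hm.subgroupOf (T : Subgroup G)).map (a : MulAut ↥(T : Subgroup G)).toMonoidHom
      (a : MulAut ↥(T : Subgroup G)).surjective).conj_mem y hy t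
  obtain ⟨U, hU⟩ : ∃ U, U = Ut.map (T : Subgroup G).subtype := ⟨_, rfl⟩
  have hVU : mod 2 G ≤ U := fun v hv => hU.ge
    ⟨⟨v, Grp.pCore_le_sylow T (mod_le T hv)⟩, hVle (mem_subgroupOf.mpr hv), rfl⟩
  refine ⟨U, fun e => hmod (le_bot_iff.mp (hVU.trans e.le)), normalizer_eq_top_iff.mp (eq_top_iff.mpr
    ((pgen_sup_sylow T).ge.trans (sup_le (fun c hc' => ?_) fun t ht => ?_))), hU ▸ map_subtype_le _,
    fun a ha x hx => ?_⟩
  · refine RootPair.norm_of_cj (eq_of_le_of_card_ge (RootPair.cj_le.mpr fun u hu => ?_) (card_cj _ _).ge)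
    obtain ⟨y, hy, rfl⟩ := hU.le hu
    have h1 := hVU (B.residual_move hc' (hUQ y hy))
    rw [show c * (T : Subgroup G).subtype y * c⁻¹ = ⁅c, (y : G)⁆ * (y : G) by
      rw [commutatorElement_def]; simp]
    exact mul_mem h1 hu
  · refine RootPair.norm_of_cj (eq_of_le_of_card_ge (RootPair.cj_le.mpr fun u hu => ?_) (card_cj _ _).ge)
    obtain ⟨y, hy, rfl⟩ := hU.le hu
    exact hU.ge ⟨⟨t, ht⟩ * y * ⟨t, ht⟩⁻¹, hUn.conj_mem y hy _, rfl⟩
  · obtain ⟨y, hy, hyx⟩ := hU.le hx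
    obtain rfl : y = x := Subtype.ext hyx
    refine hU.ge ⟨a y, ?_, rfl⟩
    have hle : Ut ≤ Ut.comap a.toMonoidHom := by
      rw [← map_le_iff_le_comap, hUt, Subgroup.map_iSup]
      refine iSup_le fun b => ?_
      rw [Subgroup.map_map]
      exact le_iSup_of_le (⟨a, ha⟩ * b : A) le_rfl
    exact hle hy

end Cfsg.Agent.Fus.PushBlocks
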